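import Mathlib

namespace Groth.Agent.DiagMonH28

open MvPolynomial

universe u

theorem isNilpotent_of_sq {S : Type*} [CommRing S] (K : Ideal S) (h : ∀ a ∈ K, ∀ b ∈ K, a * b = 0) :
    IsNilpotent K := by
  refine ⟨2, ?_⟩
  rw [pow_two]
  exact le_bot_iff.mp (Ideal.mul_le.mpr fun a ha b hb => by simp [h a ha b hb])

/-- Kernel of a surjection from a formally smooth algebra, contained in the square of `M`. -/
theorem ker_le_mul {R S A : Type u} [CommRing R] [CommRing S] [CommRing A] [Algebra R S] [Algebra R A]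
    [Algebra.FormallySmooth R A] (φ : S →ₐ[R] A) (hφ : Function.Surjective φ)
    (M : Ideal S) (hK : RingHom.ker (φ : S →+* A) ≤ M ^ 2) :
    RingHom.ker (φ : S →+* A) ≤ M * RingHom.ker (φ : S →+* A) := by
  set K := RingHom.ker (φ : S →+* A) with hKdef
  have hKM : K ≤ M := hK.trans (Ideal.pow_le_self two_ne_zero)
  set L := M * K with hL
  let π : (S ⧸ L) →ₐ[R] A := Ideal.Quotient.liftₐ L φ (fun x hx => by
    have h : x ∈ K := Ideal.mul_le_right hx
    simpa [hKdef] using h)
  have hπ : ∀ x, π (Ideal.Quotient.mk L x) = φ x := fun x => rfl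
  have hπs : Function.Surjective π := fun a => by
    obtain ⟨x, rfl⟩ := hφ a
    exact ⟨Ideal.Quotient.mk L x, rfl⟩
  have hsq : ∀ a ∈ RingHom.ker (π : (S ⧸ L) →+* A), ∀ b ∈ RingHom.ker (π : (S ⧸ L) →+* A), a * b = 0 := by
    intro a ha b hb
    obtain ⟨a, rfl⟩ := Ideal.Quotient.mk_surjective a
    obtain ⟨b, rfl⟩ := Ideal.Quotient.mk_surjective b
    rw [← map_mul, Ideal.Quotient.eq_zero_iff_mem]
    exact Ideal.mul_mem_mul (hKM (by simpa [hπ, hKdef] using ha)) (by simpa [hπ, hKdef] using hb)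
  have hnil : IsNilpotent (RingHom.ker (π : (S ⧸ L) →+* A)) := by
    refine ⟨2, ?_⟩
    refine (pow_two _).trans (le_bot_iff.mp ?_)
    exact Ideal.mul_le.mpr fun a ha b hb => by simp [hsq a ha b hb]
  let σ : A →ₐ[R] S ⧸ L := Algebra.FormallySmooth.liftOfSurjective (AlgHom.id R A) π hπs hnil
  have hσ : ∀ a, π (σ a) = a := fun a =>
    Algebra.FormallySmooth.liftOfSurjective_apply (AlgHom.id R A) π hπs hnil a
  let d : S → S ⧸ L := fun x => Ideal.Quotient.mk L x - σ (φ x)
  have hd : ∀ x, π (d x) = 0 := fun x => by simp [d, hπ, hσ]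
  have hMd : ∀ a ∈ M, ∀ x, Ideal.Quotient.mk L a * d x = 0 := by
    intro a ha x
    obtain ⟨y, hy⟩ := Ideal.Quotient.mk_surjective (d x)
    rw [← hy, ← map_mul, Ideal.Quotient.eq_zero_iff_mem]
    exact Ideal.mul_mem_mul ha (by
      have := hd x
      rw [← hy, hπ] at this
      simpa [hKdef] using this)
  have hd2 : ∀ x ∈ M ^ 2, d x = 0 := by
    intro x hx
    rw [pow_two] at hx
    refine Submodule.mul_induction_on hx (fun a ha b hb => ?_) (fun a b ha hb => ?_)
    · have hab : d a * d b = 0 := hsq _ (by simpa using hd a) _ (by simpa using hd b)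
      have h1 := hMd a ha b
      have h2 := hMd b hb a
      simp only [d, map_mul] at hab h1 h2 ⊢
      linear_combination h1 + h2 - hab
    · simp only [d, map_add] at ha hb ⊢
      linear_combination ha + hb
  intro x hx
  have h := hd2 x (hK hx)
  have hx0 : φ x = 0 := by simpa [hKdef] using hx
  simp only [d, hx0, map_zero, sub_zero] at h
  exact Ideal.Quotient.eq_zero_iff_mem.mp h

section Aug

variable (R : Type u) {A0 A : Type u} [CommRing R] [CommRing A0] [CommRing A] [Algebra R A0] [Algebra R A]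
  [Algebra A0 A] [IsScalarTower R A0 A] [Algebra.FormallySmooth R A]
include R

/-- Linearisation of the augmentation ideal modulo its square, through a free module. -/
theorem exists_linearization (ε : A →ₐ[A0] A0) {k : ℕ} (g : Fin k → A) (hg : ∀ i, ε (g i) = 0)
    (hgen : ∀ a, ε a = 0 → ∃ c : Fin k → A0,
      a - ∑ i, algebraMap A0 A (c i) * g i ∈ RingHom.ker (ε : A →+* A0) ^ 2) :
    ∃ t : A → (Fin k → A0),
      (∀ a, ε a = 0 → a - ∑ i, algebraMap A0 A (t a i) * g i ∈ RingHom.ker (ε : A →+* A0) ^ 2) ∧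
      (∀ a b, ε a = 0 → ε b = 0 → t (a + b) = t a + t b) ∧
      (∀ (c : A0) a, ε a = 0 → t (algebraMap A0 A c * a) = c • t a) ∧
      (∀ a ∈ RingHom.ker (ε : A →+* A0) ^ 2, t a = 0) := by
  set I : Ideal A := RingHom.ker (ε : A →+* A0) with hI
  set J : Ideal (MvPolynomial (Fin k) A0) := idealOfVars (Fin k) A0 with hJ
  let L : (MvPolynomial (Fin k) A0) → (Fin k → A0) := fun f i => coeff (Finsupp.single i 1) f
  have hLJ : ∀ f ∈ J ^ 2, L f = 0 := by
    intro f hf
    funext i
    exact (mem_pow_idealOfVars_iff' 2 f).mp hf _ (by simp)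
  have hLsub : ∀ f f' : (MvPolynomial (Fin k) A0), L (f - f') = L f - L f' := by intro f f'; funext i; simp [L]
  have hcJ : ∀ f : (MvPolynomial (Fin k) A0), constantCoeff f = 0 → f ∈ J := by
    intro f hf
    rw [← pow_one J, mem_pow_idealOfVars_iff']
    intro x hx
    obtain rfl : x = 0 := (Finsupp.degree_eq_zero_iff x).mp (by omega)
    simpa [constantCoeff_eq] using hf
  let ev : (MvPolynomial (Fin k) A0) →ₐ[A0] A := aeval g
  have hεev : ∀ f, ε (ev f) = constantCoeff f := by
    intro f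
    induction f using MvPolynomial.induction_on with
    | C a => simp [ev]
    | add p q hp hq => simp [hp, hq]
    | mul_X p i hp => simp [ev, hg] 
  have hlin : ∀ f : (MvPolynomial (Fin k) A0), ev f - algebraMap A0 A (constantCoeff f) - ∑ i, algebraMap A0 A (L f i) * g i ∈ I ^ 2 := by
    classical
    intro f
    induction f using MvPolynomial.induction_on with
    | C a =>
      have : ∀ i, L (C a) i = 0 := fun i => by
        simp [L, coeff_C, (Finsupp.single_ne_zero.mpr one_ne_zero).symm]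
      simp [ev, this]
    | add p q hp hq =>
      have hL : ∀ i, L (p + q) i = L p i + L q i := fun i => by simp [L]
      have := Ideal.add_mem _ hp hq
      convert this using 1
      simp only [hL, map_add, add_mul, Finset.sum_add_distrib]
      ring
    | mul_X p j hp =>
      have hL : ∀ i, L (p * X j) i = if i = j then constantCoeff p else 0 := by
        intro i
        simp only [L, coeff_mul_X']
        by_cases hij : i = j
        · subst hij; simp [constantCoeff_eq]
        · simp [hij, Ne.symm hij]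
      have h1 : (ev p - algebraMap A0 A (constantCoeff p)) * g j ∈ I ^ 2 := by
        rw [pow_two]
        refine Ideal.mul_mem_mul ?_ (by simp [hI, hg])
        simp [hI, hεev]
      convert h1 using 1
      simp [hL, ev, sub_mul, apply_ite (algebraMap A0 A), ite_mul]
  have hJI : ∀ f ∈ J ^ 2, ev f ∈ I ^ 2 := by
    intro f hf
    have := hlin f
    rw [hLJ f hf] at this
    have h0 : constantCoeff f = 0 := by
      simpa [constantCoeff_eq] using (mem_pow_idealOfVars_iff' 2 f).mp hf 0 (by simp)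
    simpa [h0] using this
  let π : ((MvPolynomial (Fin k) A0) ⧸ J ^ 2) →ₐ[R] A ⧸ I ^ 2 :=
    Ideal.Quotient.liftₐ (J ^ 2) ((Ideal.Quotient.mkₐ R (I ^ 2)).comp (ev.restrictScalars R))
      (fun f hf => Ideal.Quotient.eq_zero_iff_mem.mpr (hJI f hf))
  have hπ : ∀ f, π (Ideal.Quotient.mk (J ^ 2) f) = Ideal.Quotient.mk (I ^ 2) (ev f) := fun f => rfl
  have hπs : Function.Surjective π := by
    intro y
    obtain ⟨a, rfl⟩ := Ideal.Quotient.mk_surjective y
    obtain ⟨c, hc⟩ := hgen (a - algebraMap A0 A (ε a)) (by simp)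
    refine ⟨Ideal.Quotient.mk (J ^ 2) (C (ε a) + ∑ i, C (c i) * X i), ?_⟩
    rw [hπ, Ideal.Quotient.mk_eq_mk_iff_sub_mem]
    have := neg_mem hc
    convert this using 1
    simp [ev]
    ring
  have hker : ∀ y, π y = 0 → ∃ f ∈ J, Ideal.Quotient.mk (J ^ 2) f = y := by
    intro y hy
    obtain ⟨f, rfl⟩ := Ideal.Quotient.mk_surjective y
    rw [hπ, Ideal.Quotient.eq_zero_iff_mem] at hy
    have h : ε (ev f) = 0 := Ideal.pow_le_self two_ne_zero hy
    exact ⟨f, hcJ f (by rwa [hεev] at h), rfl⟩
  have hnil : IsNilpotent (RingHom.ker (π : ((MvPolynomial (Fin k) A0) ⧸ J ^ 2) →+* A ⧸ I ^ 2)) := by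
    refine isNilpotent_of_sq _ fun a ha b hb => ?_
    obtain ⟨fa, ha', rfl⟩ := hker a (by simpa using ha)
    obtain ⟨fb, hb', rfl⟩ := hker b (by simpa using hb)
    rw [← map_mul, Ideal.Quotient.eq_zero_iff_mem, pow_two]
    exact Ideal.mul_mem_mul ha' hb'
  let σ : A →ₐ[R] (MvPolynomial (Fin k) A0) ⧸ J ^ 2 :=
    Algebra.FormallySmooth.liftOfSurjective (Ideal.Quotient.mkₐ R (I ^ 2)) π hπs hnil
  have hσ : ∀ a, π (σ a) = Ideal.Quotient.mk (I ^ 2) a := fun a =>
    Algebra.FormallySmooth.liftOfSurjective_apply _ π hπs hnil a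
  choose r hr using fun a => Ideal.Quotient.mk_surjective (σ a)
  have hr2 : ∀ a, ev (r a) - a ∈ I ^ 2 := fun a => by
    have h := hσ a
    rw [← hr a, hπ, Ideal.Quotient.mk_eq_mk_iff_sub_mem] at h
    exact h
  have hr0 : ∀ a, constantCoeff (r a) = ε a := fun a => by
    have h : ε (ev (r a) - a) = 0 := Ideal.pow_le_self two_ne_zero (hr2 a)
    rw [map_sub, hεev, sub_eq_zero] at h
    exact h
  have hwd : ∀ f f' : (MvPolynomial (Fin k) A0), Ideal.Quotient.mk (J ^ 2) f = Ideal.Quotient.mk (J ^ 2) f' → L f = L f' := by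
    intro f f' h
    have := hLJ _ (Ideal.Quotient.mk_eq_mk_iff_sub_mem _ _ |>.mp h)
    rw [hLsub, sub_eq_zero] at this
    exact this
  refine ⟨fun a => L (r a), fun a ha => ?_, fun a b ha hb => ?_, fun c a ha => ?_, fun a ha => ?_⟩ <;> try beta_reduce
  · have h1 := hlin (r a)
    rw [hr0, ha, map_zero, sub_zero] at h1
    have h := Ideal.sub_mem _ h1 (hr2 a)
    convert h using 1
    simp
  · have : L (r (a + b)) = L (r a + r b) := hwd _ _ (by rw [map_add, hr, hr, hr, map_add])
    rw [this]; funext i; simp [L]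
  · have hj : Ideal.Quotient.mk (J ^ 2) ((r (algebraMap A0 A c) - C c) * r a) = 0 := by
      rw [Ideal.Quotient.eq_zero_iff_mem, pow_two]
      refine Ideal.mul_mem_mul (hcJ _ ?_) (hcJ _ ?_)
      · rw [map_sub, hr0]; simp
      · rw [hr0, ha]
    have : L (r (algebraMap A0 A c * a)) = L (C c * r a) := hwd _ _ (by
      rw [sub_mul, map_sub, sub_eq_zero] at hj
      rw [← hj, map_mul _ (r (algebraMap A0 A c)), hr, hr, hr, map_mul])
    rw [this]; funext i; simp [L]
  · refine hLJ _ ?_
    rw [← Ideal.Quotient.eq_zero_iff_mem, hr]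
    rw [pow_two] at ha
    refine Submodule.mul_induction_on ha (fun x hx y hy => ?_) (fun x y hx hy => by rw [map_add, hx, hy, add_zero])
    rw [map_mul, ← hr x, ← hr y, ← map_mul, Ideal.Quotient.eq_zero_iff_mem, pow_two]
    refine Ideal.mul_mem_mul (hcJ _ ?_) (hcJ _ ?_)
    · rw [hr0]; exact hx
    · rw [hr0]; exact hy

end Aug

/-- Powers of the augmentation ideal of a symmetric algebra of a retract of a finite free module
intersect trivially. -/
theorem eq_zero_of_mem_pow {A0 P : Type u} [CommRing A0] [AddCommGroup P] [Module A0 P] {k : ℕ}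
    (i : P →ₗ[A0] (Fin k → A0)) (r : (Fin k → A0) →ₗ[A0] P) (hri : ∀ p, r (i p) = p)
    (x : SymmetricAlgebra A0 P)
    (hx : ∀ m : ℕ, x ∈ RingHom.ker (SymmetricAlgebra.algebraMapInv : SymmetricAlgebra A0 P →ₐ[A0] A0).toRingHom ^ m) :
    x = 0 := by
  classical
  set J : Ideal (MvPolynomial (Fin k) A0) := idealOfVars (Fin k) A0
  let lin : (Fin k → A0) →ₗ[A0] MvPolynomial (Fin k) A0 := Fintype.linearCombination A0 X
  let F : SymmetricAlgebra A0 P →ₐ[A0] MvPolynomial (Fin k) A0 := SymmetricAlgebra.lift (lin.comp i)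
  let G : MvPolynomial (Fin k) A0 →ₐ[A0] SymmetricAlgebra A0 P :=
    aeval fun j => SymmetricAlgebra.ι A0 P (r (Pi.single j 1))
  have hGF : G.comp F = AlgHom.id A0 _ := by
    apply SymmetricAlgebra.algHom_ext
    ext p
    simp only [LinearMap.comp_apply, AlgHom.toLinearMap_apply, AlgHom.comp_apply, AlgHom.id_apply]
    change G (F (SymmetricAlgebra.ι A0 P p)) = SymmetricAlgebra.ι A0 P p
    rw [show F (SymmetricAlgebra.ι A0 P p) = lin (i p) from SymmetricAlgebra.lift_ι_apply _ p]
    simp only [lin, Fintype.linearCombination_apply, map_sum, map_smul, G, aeval_X]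
    rw [Finset.sum_congr rfl fun j _ => (map_smul (SymmetricAlgebra.ι A0 P) (i p j) _).symm, ← map_sum,
      Finset.sum_congr rfl fun j _ => (map_smul r (i p j) _).symm, ← map_sum, ← pi_eq_sum_univ' (i p), hri]
  have hc : (constantCoeff : MvPolynomial (Fin k) A0 →+* A0).comp F.toRingHom =
      (SymmetricAlgebra.algebraMapInv : SymmetricAlgebra A0 P →ₐ[A0] A0).toRingHom := by
    let c : MvPolynomial (Fin k) A0 →ₐ[A0] A0 := aeval (0 : Fin k → A0)
    have h : c.comp F = SymmetricAlgebra.algebraMapInv := by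
      apply SymmetricAlgebra.algHom_ext
      ext p
      simp [c, F, lin, Fintype.linearCombination_apply, SymmetricAlgebra.algebraMapInv_ι]
    rw [← h]
    ext y
    simp [c, constantCoeff_eq, aeval_zero]
  have hmap : (RingHom.ker (SymmetricAlgebra.algebraMapInv : SymmetricAlgebra A0 P →ₐ[A0] A0).toRingHom).map
      F.toRingHom ≤ J := by
    rw [Ideal.map_le_iff_le_comap]
    intro y hy
    rw [RingHom.mem_ker, ← hc] at hy
    rw [Ideal.mem_comap, ← pow_one J, mem_pow_idealOfVars_iff']
    intro d hd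
    obtain rfl : d = 0 := (Finsupp.degree_eq_zero_iff d).mp (by omega)
    simpa [constantCoeff_eq] using hy
  have h0 : F x = 0 := by
    ext d
    have := (Ideal.pow_right_mono hmap (Finsupp.degree d + 1))
      (Ideal.map_pow F.toRingHom _ _ ▸ Ideal.mem_map_of_mem F.toRingHom (hx (Finsupp.degree d + 1)))
    simpa using (mem_pow_idealOfVars_iff' _ _).mp this d (by omega)
  have := congrArg (fun φ => φ x) hGF
  simpa [h0] using this.symm

theorem exists_decomp {A0 P : Type u} [CommRing A0] [AddCommGroup P] [Module A0 P] (x : SymmetricAlgebra A0 P) :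
    ∃ p, x - algebraMap A0 _ (SymmetricAlgebra.algebraMapInv x) - SymmetricAlgebra.ι A0 P p ∈
      RingHom.ker (SymmetricAlgebra.algebraMapInv : SymmetricAlgebra A0 P →ₐ[A0] A0).toRingHom ^ 2 := by
  induction x using SymmetricAlgebra.induction with
  | algebraMap r => exact ⟨0, by simp [SymmetricAlgebra.algebraMap_leftInverse _ r]⟩
  | ι p => exact ⟨p, by simp [SymmetricAlgebra.algebraMapInv_ι]⟩
  | add x y hx hy =>
    obtain ⟨p, hp⟩ := hx; obtain ⟨q, hq⟩ := hy
    refine ⟨p + q, ?_⟩
    convert add_mem hp hq using 1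
    simp only [map_add]; ring
  | mul x y hx hy =>
    obtain ⟨p, hp⟩ := hx; obtain ⟨q, hq⟩ := hy
    refine ⟨SymmetricAlgebra.algebraMapInv x • q + SymmetricAlgebra.algebraMapInv y • p, ?_⟩
    set S := RingHom.ker (SymmetricAlgebra.algebraMapInv : SymmetricAlgebra A0 P →ₐ[A0] A0).toRingHom with hS
    have hxm : ∀ z, z - algebraMap A0 _ (SymmetricAlgebra.algebraMapInv z) ∈ S := fun z => by
      simp [hS, SymmetricAlgebra.algebraMap_leftInverse _ (SymmetricAlgebra.algebraMapInv z)]
    have hxy := Ideal.mul_mem_mul (hxm x) (hxm y)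
    rw [← pow_two] at hxy
    convert add_mem hxy (add_mem (Ideal.mul_mem_left _ (algebraMap A0 _ (SymmetricAlgebra.algebraMapInv x)) hq)
      (Ideal.mul_mem_left _ (algebraMap A0 _ (SymmetricAlgebra.algebraMapInv y)) hp)) using 1
    simp only [map_add, map_mul, map_smul, Algebra.smul_def]; ring

/-- A surjection from a symmetric algebra, identifying `P` with the linearised augmentation ideal,
is injective if the target is formally smooth. -/
theorem injective_lift (R : Type u) {A0 A P : Type u} [CommRing R] [CommRing A0] [CommRing A] [Algebra R A0]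
    [Algebra R A] [Algebra A0 A] [IsScalarTower R A0 A] [Algebra.FormallySmooth R A]
    [AddCommGroup P] [Module A0 P] (ε : A →ₐ[A0] A0) (s : P →ₗ[A0] A) (hs : ∀ p, ε (s p) = 0)
    (hs2 : ∀ p, s p ∈ RingHom.ker (ε : A →+* A0) ^ 2 → p = 0) {k : ℕ}
    (i : P →ₗ[A0] (Fin k → A0)) (r : (Fin k → A0) →ₗ[A0] P) (hri : ∀ p, r (i p) = p)
    (hsurj : Function.Surjective (SymmetricAlgebra.lift s)) :
    Function.Injective (SymmetricAlgebra.lift s) := by
  set φ := SymmetricAlgebra.lift s with hφ
  set S := RingHom.ker (SymmetricAlgebra.algebraMapInv : SymmetricAlgebra A0 P →ₐ[A0] A0).toRingHom with hS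
  letI : Algebra R (SymmetricAlgebra A0 P) := ((algebraMap A0 _).comp (algebraMap R A0)).toAlgebra
  haveI : IsScalarTower R A0 (SymmetricAlgebra A0 P) := IsScalarTower.of_algebraMap_eq fun _ => rfl
  have hεφ : ε.comp φ = SymmetricAlgebra.algebraMapInv := by
    apply SymmetricAlgebra.algHom_ext
    ext p
    simp [hφ, hs, SymmetricAlgebra.algebraMapInv_ι]
  have hmap : S.map φ.toRingHom ≤ RingHom.ker (ε : A →+* A0) := by
    rw [Ideal.map_le_iff_le_comap]
    intro y hy
    change ε (φ y) = 0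
    exact (AlgHom.congr_fun hεφ y).trans hy
  have hK2 : RingHom.ker ((φ.restrictScalars R) : _ →+* A) ≤ S ^ 2 := by
    intro x hx
    have hx0 : φ x = 0 := hx
    have hc : SymmetricAlgebra.algebraMapInv x = 0 := by
      rw [← hεφ, AlgHom.comp_apply, hx0, map_zero]
    obtain ⟨p, hp⟩ := exists_decomp x
    rw [hc, map_zero, sub_zero] at hp
    have h := Ideal.pow_right_mono hmap 2 (Ideal.map_pow φ.toRingHom S 2 ▸ Ideal.mem_map_of_mem φ.toRingHom hp)
    have h' : φ (x - SymmetricAlgebra.ι A0 P p) ∈ RingHom.ker (ε : A →+* A0) ^ 2 := h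
    rw [map_sub, hx0, zero_sub, hφ, SymmetricAlgebra.lift_ι_apply] at h'
    rw [hs2 p ((Submodule.neg_mem_iff _).mp h'), map_zero, sub_zero] at hp
    exact hp
  have hKK := ker_le_mul (φ.restrictScalars R) hsurj S hK2
  have hpow : ∀ m, RingHom.ker ((φ.restrictScalars R) : _ →+* A) ≤ S ^ m := by
    intro m
    induction m with
    | zero => simp
    | succ m ihm => rw [pow_succ']; exact hKK.trans (Ideal.mul_mono_right ihm)
  exact (injective_iff_map_eq_zero φ).mpr fun x hx => eq_zero_of_mem_pow i r hri x fun m => hpow m hx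

end Groth.Agent.DiagMonH28
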