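import Groth.Agent.Lib.DiagMonH28.Abstract

namespace Groth.Agent.DiagMonH28

open DirectSum

universe u

variable {R A : Type u} [CommRing R] [CommRing A] [Algebra R A] {N : Type} [AddCommMonoid N] [DecidableEq N]
  (𝒜 : N → Submodule R A) [GradedAlgebra 𝒜]

local instance (priority := high) instCommRingGradeZero : CommRing (𝒜 0) := SetLike.GradeZero.instCommRing 𝒜

/-- homogeneous component as an element of `A` -/
def comp (n : N) (a : A) : A := (decompose 𝒜 a n : A)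

theorem comp_mem (n : N) (a : A) : comp 𝒜 n a ∈ 𝒜 n := SetLike.coe_mem _

theorem comp_add (n : N) (a b : A) : comp 𝒜 n (a + b) = comp 𝒜 n a + comp 𝒜 n b := by
  simp [comp, decompose_add]

theorem comp_zero (n : N) : comp 𝒜 n (0 : A) = 0 := by simp [comp]

theorem comp_sum {ι : Type*} (n : N) (s : Finset ι) (f : ι → A) :
    comp 𝒜 n (∑ i ∈ s, f i) = ∑ i ∈ s, comp 𝒜 n (f i) :=
  map_sum (AddMonoidHom.mk' (comp 𝒜 n) (comp_add 𝒜 n)) f s

theorem comp_sub (n : N) (a b : A) : comp 𝒜 n (a - b) = comp 𝒜 n a - comp 𝒜 n b :=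
  map_sub (AddMonoidHom.mk' (comp 𝒜 n) (comp_add 𝒜 n)) a b

theorem comp_same {n : N} {a : A} (ha : a ∈ 𝒜 n) : comp 𝒜 n a = a := decompose_of_mem_same 𝒜 ha

theorem comp_ne {n m : N} {a : A} (ha : a ∈ 𝒜 m) (h : m ≠ n) : comp 𝒜 n a = 0 :=
  decompose_of_mem_ne 𝒜 ha h

theorem comp_smul (n : N) (c : 𝒜 0) (a : A) : comp 𝒜 n ((c : A) * a) = (c : A) * comp 𝒜 n a :=
  coe_decompose_mul_of_left_mem_zero 𝒜 c.2

variable (hsharp : ∀ n : N, IsAddUnit n → n = 0)

include hsharp in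
theorem add_eq_zero {a b : N} (h : a + b = 0) : a = 0 ∧ b = 0 :=
  ⟨hsharp a (isAddUnit_iff_exists.mpr ⟨b, h, by rw [add_comm, h]⟩),
   hsharp b (isAddUnit_iff_exists.mpr ⟨a, by rw [add_comm, h], h⟩)⟩

include hsharp in
theorem comp_zero_mul (u v : A) : comp 𝒜 0 (u * v) = comp 𝒜 0 u * comp 𝒜 0 v := by
  induction u using Decomposition.inductionOn 𝒜 with
  | zero => simp [comp_zero]
  | add u u' hu hu' => rw [add_mul, comp_add, hu, hu', comp_add, add_mul]
  | @homogeneous a u =>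
    induction v using Decomposition.inductionOn 𝒜 with
    | zero => simp [comp_zero]
    | add v v' hv hv' => rw [mul_add, comp_add, hv, hv', comp_add 𝒜 0 v v', mul_add]
    | @homogeneous b v =>
      by_cases h : a + b = 0
      · obtain ⟨rfl, rfl⟩ := add_eq_zero hsharp h
        rw [comp_same 𝒜 u.2, comp_same 𝒜 v.2, comp_same 𝒜]
        simpa using SetLike.mul_mem_graded u.2 v.2
      · rw [comp_ne 𝒜 (SetLike.mul_mem_graded u.2 v.2) h]
        by_cases ha : a = 0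
        · rw [comp_ne 𝒜 v.2 (fun hb => h (by rw [ha, hb, add_zero])), mul_zero]
        · rw [comp_ne 𝒜 u.2 ha, zero_mul]

/-- the augmentation `A → A₀` -/
noncomputable def aug : A →ₐ[𝒜 0] 𝒜 0 where
  toFun a := decompose 𝒜 a 0
  map_one' := Subtype.ext (comp_same 𝒜 SetLike.GradedOne.one_mem)
  map_mul' u v := Subtype.ext (comp_zero_mul 𝒜 hsharp u v)
  map_zero' := by simp
  map_add' u v := by simp [decompose_add]
  commutes' c := Subtype.ext (comp_same 𝒜 c.2)

theorem aug_coe (a : A) : (aug 𝒜 hsharp a : A) = comp 𝒜 0 a := rfl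

theorem mem_ker_aug {a : A} :
    a ∈ RingHom.ker (aug 𝒜 hsharp : A →+* 𝒜 0) ↔ comp 𝒜 0 a = 0 := by
  rw [RingHom.mem_ker, ← aug_coe 𝒜 hsharp]
  exact (Submodule.coe_eq_zero).symm

include hsharp in
/-- A homogeneous component of an element of the square of the augmentation ideal is a sum of
products of homogeneous elements of smaller degrees. -/
theorem comp_mem_of_mem_sq {a : A} (ha : a ∈ RingHom.ker (aug 𝒜 hsharp : A →+* 𝒜 0) ^ 2) (n : N)
    (B : AddSubmonoid A)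
    (hB : ∀ p q : N, p ≠ 0 → q ≠ 0 → p + q = n → ∀ u ∈ 𝒜 p, ∀ v ∈ 𝒜 q, u * v ∈ B) :
    comp 𝒜 n a ∈ B := by
  classical
  rw [pow_two] at ha
  refine Submodule.mul_induction_on ha (fun u hu v hv => ?_)
    (fun u v hu hv => by rw [comp_add]; exact add_mem hu hv)
  rw [mem_ker_aug] at hu hv
  rw [← sum_support_decompose 𝒜 u, ← sum_support_decompose 𝒜 v, Finset.sum_mul, comp_sum]
  refine sum_mem fun p _ => ?_
  rw [Finset.mul_sum, comp_sum]
  refine sum_mem fun q _ => ?_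
  have hp : comp 𝒜 p u ∈ 𝒜 p := comp_mem 𝒜 p u
  have hq : comp 𝒜 q v ∈ 𝒜 q := comp_mem 𝒜 q v
  change comp 𝒜 n (comp 𝒜 p u * comp 𝒜 q v) ∈ B
  by_cases hp0 : p = 0
  · rw [hp0, hu, zero_mul, comp_zero]; exact zero_mem B
  by_cases hq0 : q = 0
  · rw [hq0, hv, mul_zero, comp_zero]; exact zero_mem B
  by_cases h : p + q = n
  · rw [← h, comp_same 𝒜 (SetLike.mul_mem_graded hp hq)]
    exact hB p q hp0 hq0 h _ hp _ hq
  · rw [comp_ne 𝒜 (SetLike.mul_mem_graded hp hq) h]; exact zero_mem B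

theorem comp_mem_sq {a : A} (ha : a ∈ RingHom.ker (aug 𝒜 hsharp : A →+* 𝒜 0) ^ 2) (n : N) :
    comp 𝒜 n a ∈ RingHom.ker (aug 𝒜 hsharp : A →+* 𝒜 0) ^ 2 := by
  refine comp_mem_of_mem_sq 𝒜 hsharp ha n (Submodule.toAddSubmonoid _) fun p q hp hq _ u hu v hv => ?_
  rw [pow_two]
  exact Ideal.mul_mem_mul ((mem_ker_aug 𝒜 hsharp).mpr (comp_ne 𝒜 hu hp))
    ((mem_ker_aug 𝒜 hsharp).mpr (comp_ne 𝒜 hv hq))

theorem comp_mem_ker {a : A} (ha : a ∈ RingHom.ker (aug 𝒜 hsharp : A →+* 𝒜 0)) (n : N) :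
    comp 𝒜 n a ∈ RingHom.ker (aug 𝒜 hsharp : A →+* 𝒜 0) := by
  rw [mem_ker_aug] at ha ⊢
  by_cases hn : n = 0
  · subst hn; rw [ha, comp_zero]
  · exact comp_ne 𝒜 (comp_mem 𝒜 n a) hn

omit [DecidableEq N] in
include hsharp in
theorem wellFounded_lt [AddMonoid.FG N] [IsCancelAdd N] :
    WellFounded fun m n : N => ∃ b, b ≠ 0 ∧ m + b = n := by
  classical
  obtain ⟨S, hS⟩ := AddMonoid.FG.fg_top (M := N)
  have htrans : ∀ a b c : N, (∃ x, x ≠ 0 ∧ a + x = b) → (∃ y, y ≠ 0 ∧ b + y = c) → ∃ z, z ≠ 0 ∧ a + z = c := by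
    rintro a b c ⟨x, hx, rfl⟩ ⟨y, _, rfl⟩
    exact ⟨x + y, fun h => hx (add_eq_zero hsharp h).1, by rw [add_assoc]⟩
  haveI : IsStrictOrder N (fun m n : N => ∃ b, b ≠ 0 ∧ m + b = n) :=
    { irrefl := fun a ⟨b, hb, h⟩ => hb (add_left_cancel (h.trans (add_zero a).symm))
      trans := htrans }
  rw [RelEmbedding.wellFounded_iff_isEmpty]
  refine ⟨fun f => ?_⟩
  let φ : (S → ℕ) → N := fun v => ∑ s : S, v s • (s : N)
  have hφs : ∀ x : N, ∃ v, φ v = x := by
    intro x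
    have hx : x ∈ AddSubmonoid.closure (S : Set N) := hS ▸ AddSubmonoid.mem_top x
    induction hx using AddSubmonoid.closure_induction with
    | mem x hx => exact ⟨Pi.single ⟨x, hx⟩ 1, by simp [φ, Pi.single_apply, ite_smul]⟩
    | zero => exact ⟨0, by simp [φ]⟩
    | add x y _ _ hx hy =>
      obtain ⟨v, rfl⟩ := hx; obtain ⟨w, rfl⟩ := hy
      exact ⟨v + w, by simp [φ, add_smul, Finset.sum_add_distrib]⟩
  choose v hv using fun i : ℕ => hφs (f i)
  obtain ⟨i, j, hij, hle⟩ := wellQuasiOrdered_le (α := S → ℕ) v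
  obtain ⟨w, hw⟩ := le_iff_exists_add.mp hle
  obtain ⟨b, hb, hb'⟩ := f.map_rel_iff.mpr (show j > i from hij)
  have h1 : f i + φ w = f j := by
    rw [← hv i, ← hv j, hw]; simp [φ, add_smul, Finset.sum_add_distrib]
  have h2 : f j + (b + φ w) = f j + 0 := by rw [← add_assoc, hb', h1, add_zero]
  exact hb (add_eq_zero hsharp (add_left_cancel h2)).1

include hsharp in
theorem exists_algEquiv [AddMonoid.FG N] [IsCancelAdd N] [Algebra.Smooth R A] :
    ∃ (P : Type u) (_ : AddCommGroup P) (_ : Module (𝒜 0) P), Module.Finite (𝒜 0) P ∧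
      Module.Projective (𝒜 0) P ∧ Nonempty (A ≃ₐ[𝒜 0] SymmetricAlgebra (𝒜 0) P) := by
  classical
  haveI : IsScalarTower R (𝒜 0) A := IsScalarTower.of_algebraMap_eq fun r => rfl
  set ε := aug 𝒜 hsharp with hε
  set I : Ideal A := RingHom.ker (ε : A →+* 𝒜 0) with hI
  -- homogeneous generators of the augmentation ideal
  obtain ⟨T, hT⟩ := (Algebra.FiniteType.out : (⊤ : Subalgebra R A).FG)
  let Gs : Finset (N × A) := T.biUnion fun t => ((decompose 𝒜 t).support.filter (· ≠ 0)).image fun n => (n, comp 𝒜 n t)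
  let k := Gs.card
  let e := Gs.equivFin.symm
  let deg : Fin k → N := fun i => (e i : N × A).1
  let g : Fin k → A := fun i => (e i : N × A).2
  have hgd : ∀ i, g i ∈ 𝒜 (deg i) ∧ deg i ≠ 0 := by
    intro i
    obtain ⟨t, _, ht⟩ := Finset.mem_biUnion.mp (e i).2
    obtain ⟨n, hn, hn'⟩ := Finset.mem_image.mp ht
    simp only [g, deg]
    rw [← hn']
    exact ⟨comp_mem 𝒜 n t, (Finset.mem_filter.mp hn).2⟩
  have hεg : ∀ i, ε (g i) = 0 := fun i => Subtype.ext (comp_ne 𝒜 (hgd i).1 (hgd i).2)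
  have hspan : ∀ a, a - algebraMap (𝒜 0) A (ε a) ∈ Ideal.span (Set.range g) := by
    intro a
    have ha : a ∈ Algebra.adjoin R (T : Set A) := hT ▸ Algebra.mem_top
    induction ha using Algebra.adjoin_induction with
    | mem t ht =>
      have hsum := sum_support_decompose 𝒜 t
      rw [← Finset.sum_filter_add_sum_filter_not _ (· ≠ 0)] at hsum
      have h0 : ∑ n ∈ (decompose 𝒜 t).support.filter (fun n => ¬ n ≠ 0), (decompose 𝒜 t n : A) =
          algebraMap (𝒜 0) A (ε t) := by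
        change _ = comp 𝒜 0 t
        rw [Finset.sum_eq_single 0]
        · rfl
        · intro n hn hn0
          exact absurd (not_not.mp (Finset.mem_filter.mp hn).2) hn0
        · intro h
          by_contra h'
          exact h (Finset.mem_filter.mpr ⟨DFinsupp.mem_support_iff.mpr (fun hz => h' (by simp [hz])), by simp⟩)
      rw [h0] at hsum
      rw [← eq_sub_iff_add_eq.mpr hsum]
      refine sum_mem fun n hn => Ideal.subset_span ?_
      have hmem : (n, comp 𝒜 n t) ∈ Gs := Finset.mem_biUnion.mpr ⟨t, ht, Finset.mem_image_of_mem _ hn⟩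
      exact ⟨e.symm ⟨_, hmem⟩, by simp [g]; rfl⟩
    | algebraMap r =>
      have : ε (algebraMap R A r) = algebraMap R (𝒜 0) r := by
        rw [IsScalarTower.algebraMap_apply R (𝒜 0) A, AlgHom.commutes]; rfl
      rw [this, ← IsScalarTower.algebraMap_apply, sub_self]
      exact zero_mem _
    | add x y _ _ hx hy =>
      convert add_mem hx hy using 1
      rw [map_add, map_add]; ring
    | mul x y _ _ hx hy =>
      convert add_mem (Ideal.mul_mem_right y _ hx) (Ideal.mul_mem_left _ (algebraMap (𝒜 0) A (ε x)) hy) using 1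
      rw [map_mul, map_mul]; ring
  have hgen : ∀ a, ε a = 0 → ∃ c : Fin k → 𝒜 0,
      a - ∑ i, algebraMap (𝒜 0) A (c i) * g i ∈ I ^ 2 := by
    intro a ha
    have h := hspan a
    rw [ha, map_zero, sub_zero] at h
    obtain ⟨r, hr⟩ := (Submodule.mem_span_range_iff_exists_fun A).mp h
    refine ⟨fun i => ε (r i), ?_⟩
    rw [← hr, ← Finset.sum_sub_distrib]
    refine sum_mem fun i _ => ?_
    rw [smul_eq_mul, ← sub_mul, pow_two]
    refine Ideal.mul_mem_mul ?_ (hεg i)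
    rw [hI, RingHom.mem_ker]
    change ε (r i - algebraMap (𝒜 0) A (ε (r i))) = 0
    rw [map_sub, ε.commutes, sub_eq_zero]; rfl
  obtain ⟨t, ht1, ht2, ht3, ht4⟩ := exists_linearization R ε g hεg hgen
  -- the module
  let I' : Submodule (𝒜 0) A := I.restrictScalars (𝒜 0)
  let Q : Submodule (𝒜 0) I' := ((I ^ 2).restrictScalars (𝒜 0)).comap I'.subtype
  let tl : I' →ₗ[𝒜 0] (Fin k → 𝒜 0) :=
    { toFun := fun a => t a
      map_add' := fun a b => ht2 a b a.2 b.2
      map_smul' := fun c a => by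
        simpa [Algebra.smul_def] using ht3 c a a.2 }
  let G : (Fin k → 𝒜 0) →ₗ[𝒜 0] A := Fintype.linearCombination (𝒜 0) g
  have hG : ∀ c, G c = ∑ i, algebraMap (𝒜 0) A (c i) * g i := fun c => by
    simp [G, Fintype.linearCombination_apply, Algebra.smul_def]
  have hGI : ∀ c, G c ∈ I' := fun c => by
    rw [hG]
    exact sum_mem fun i _ => Ideal.mul_mem_left _ _ (hεg i)
  let i0 : (I' ⧸ Q) →ₗ[𝒜 0] (Fin k → 𝒜 0) := Q.liftQ tl (fun a ha => ht4 a ha)
  let r0 : (Fin k → 𝒜 0) →ₗ[𝒜 0] (I' ⧸ Q) := Q.mkQ.comp (G.codRestrict I' hGI)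
  have hri : ∀ p, r0 (i0 p) = p := by
    intro p
    induction p using Submodule.Quotient.induction_on with
    | _ a =>
      refine (Submodule.Quotient.eq Q).mpr ?_
      change G (t a) - (a : A) ∈ I ^ 2
      rw [hG]
      exact (Submodule.neg_mem_iff _).mp (by simpa using ht1 a a.2)
  -- graded section
  let D : Finset N := Finset.univ.image deg
  let cl (n : N) : A →ₗ[𝒜 0] A :=
    { toFun := comp 𝒜 n
      map_add' := comp_add 𝒜 n
      map_smul' := fun c a => comp_smul 𝒜 n c a }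
  let pl (n : N) : I' →ₗ[𝒜 0] I' :=
    ((cl n).comp I'.subtype).codRestrict I' fun a => comp_mem_ker 𝒜 hsharp a.2 n
  let s1 : I' →ₗ[𝒜 0] A := ∑ n ∈ D, (cl n).comp (G.comp (tl.comp (pl n)))
  have hs1 : ∀ a : I', s1 a = ∑ n ∈ D, comp 𝒜 n (G (t (comp 𝒜 n a))) := fun a => by
    simp only [s1, LinearMap.sum_apply]; rfl
  have hs1Q : ∀ a ∈ Q, s1 a = 0 := by
    intro a ha
    rw [hs1]
    refine Finset.sum_eq_zero fun n _ => ?_
    rw [ht4 _ (comp_mem_sq 𝒜 hsharp (show (a : A) ∈ I ^ 2 from ha) n), map_zero, comp_zero]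
  have hDsum : ∀ c, ∑ n ∈ D, comp 𝒜 n (G c) = G c := by
    intro c
    rw [hG]
    simp only [comp_sum]
    rw [Finset.sum_comm]
    refine Finset.sum_congr rfl fun i _ => ?_
    have hm : algebraMap (𝒜 0) A (c i) * g i ∈ 𝒜 (deg i) := by
      have h := SetLike.mul_mem_graded (c i).2 (hgd i).1
      rw [zero_add] at h
      exact h
    rw [Finset.sum_eq_single (deg i)]
    · exact comp_same 𝒜 hm
    · exact fun n _ hn => comp_ne 𝒜 hm hn.symm
    · intro h; simp [D] at h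
  have hs1mod : ∀ a : I', s1 a - (a : A) ∈ I ^ 2 := by
    intro a
    have hkey : ∀ n, comp 𝒜 n (G (t (comp 𝒜 n a))) - comp 𝒜 n (a : A) ∈ I ^ 2 := by
      intro n
      have h := comp_mem_sq 𝒜 hsharp (ht1 _ (comp_mem_ker 𝒜 hsharp a.2 n)) n
      rw [comp_sub, comp_same 𝒜 (comp_mem 𝒜 n (a : A)), ← hG] at h
      exact (Submodule.neg_mem_iff _).mp (by simpa using h)
    have h1 : s1 a - ∑ n ∈ D, comp 𝒜 n (a : A) ∈ I ^ 2 := by
      rw [hs1, ← Finset.sum_sub_distrib]; exact sum_mem fun n _ => hkey n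
    have h2 : (a : A) - G (t a) ∈ I ^ 2 := by rw [hG]; exact ht1 a a.2
    have h3 : ∑ n ∈ D, comp 𝒜 n (a : A) - G (t a) ∈ I ^ 2 := by
      rw [← hDsum (t a), ← Finset.sum_sub_distrib]
      refine sum_mem fun n _ => ?_
      rw [← comp_sub]
      exact comp_mem_sq 𝒜 hsharp h2 n
    convert sub_mem (add_mem h1 h3) h2 using 1
    ring
  have hs1deg : ∀ (a : I') (n : N), (a : A) ∈ 𝒜 n → s1 a ∈ 𝒜 n := by
    intro a n han
    rw [hs1]
    refine sum_mem fun m _ => ?_
    by_cases hm : m = n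
    · subst hm; exact comp_mem 𝒜 m _
    · rw [comp_ne 𝒜 han (Ne.symm hm)]
      rw [ht4 0 (zero_mem _), map_zero, comp_zero]
      exact zero_mem _
  let s : (I' ⧸ Q) →ₗ[𝒜 0] A := Q.liftQ s1 hs1Q
  let φ : SymmetricAlgebra (𝒜 0) (I' ⧸ Q) →ₐ[𝒜 0] A := SymmetricAlgebra.lift s
  have hφι : ∀ a : I', φ (SymmetricAlgebra.ι _ _ (Q.mkQ a)) = s1 a := fun a => by
    rw [SymmetricAlgebra.lift_ι_apply]; rfl
  have hsurj : Function.Surjective φ := by
    have hhom : ∀ n, ∀ a ∈ 𝒜 n, a ∈ φ.range := by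
      intro n
      induction n using (wellFounded_lt hsharp).induction with
      | _ n ih =>
        intro a ha
        by_cases hn : n = 0
        · subst hn
          exact ⟨algebraMap _ _ ⟨a, ha⟩, (φ.commutes _).trans rfl⟩
        · have haI : a ∈ I := (mem_ker_aug 𝒜 hsharp).mpr (comp_ne 𝒜 ha hn)
          have h1 : s1 ⟨a, haI⟩ ∈ φ.range := ⟨_, hφι ⟨a, haI⟩⟩
          have h2 : comp 𝒜 n (s1 ⟨a, haI⟩ - a) ∈ φ.range.toSubsemiring.toAddSubmonoid := by
            refine comp_mem_of_mem_sq 𝒜 hsharp (hs1mod ⟨a, haI⟩) n _ fun p q hp hq hpq u hu v hv => ?_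
            exact φ.range.mul_mem (ih p ⟨q, hq, hpq⟩ u hu) (ih q ⟨p, hp, by rw [add_comm, hpq]⟩ v hv)
          rw [comp_same 𝒜 (sub_mem (hs1deg ⟨a, haI⟩ n ha) ha)] at h2
          have := φ.range.sub_mem h1 h2
          rwa [sub_sub_cancel] at this
    intro a
    rw [← sum_support_decompose 𝒜 a]
    exact (sum_mem fun n _ => hhom n _ (comp_mem 𝒜 n a) : (∑ i ∈ (decompose 𝒜 a).support, (decompose 𝒜 a i : A)) ∈ φ.range)
  have hinj : Function.Injective φ := by
    have hs1I : ∀ a : I', s1 a ∈ I := fun a => by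
      have := add_mem (Ideal.pow_le_self two_ne_zero (hs1mod a)) (show (a : A) ∈ I from a.2)
      simpa using this
    refine injective_lift R ε s ?_ ?_ i0 r0 hri hsurj
    · intro p
      obtain ⟨a, rfl⟩ := Q.mkQ_surjective p
      exact hs1I a
    · intro p hp
      obtain ⟨a, rfl⟩ := Q.mkQ_surjective p
      refine (Submodule.Quotient.mk_eq_zero Q).mpr ?_
      have := sub_mem hp (hs1mod a)
      change (a : A) ∈ I ^ 2
      rw [show s (Q.mkQ a) = s1 a from rfl, sub_sub_cancel] at this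
      exact this
  refine ⟨I' ⧸ Q, inferInstance, inferInstance, ?_, ?_, ⟨(AlgEquiv.ofBijective φ ⟨hinj, hsurj⟩).symm⟩⟩
  · exact Module.Finite.of_surjective r0 fun p => ⟨i0 p, hri p⟩
  · exact Module.Projective.of_split i0 r0 (LinearMap.ext hri)

end Groth.Agent.DiagMonH28
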