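import Mathlib

namespace Groth.Agent.DiagMonH28

universe u

/-- Transport a description as a symmetric algebra along a bijective change of base. -/
theorem transport {R A0 A P : Type u} [CommRing R] [CommRing A0] [CommRing A] [Algebra R A0] [Algebra R A]
    [Algebra A0 A] [IsScalarTower R A0 A] (hb : Function.Bijective (algebraMap R A0))
    [AddCommGroup P] [Module A0 P] [Module R P] [IsScalarTower R A0 P]
    [Module.Finite A0 P] [Module.Projective A0 P] (e : A ≃ₐ[A0] SymmetricAlgebra A0 P) :
    Module.Finite R P ∧ Module.Projective R P ∧ Nonempty (A ≃ₐ[R] SymmetricAlgebra R P) := by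
  classical
  let i : R ≃+* A0 := RingEquiv.ofBijective _ hb
  haveI hF : Module.Finite R A0 := Module.Finite.of_surjective (Algebra.linearMap R A0) hb.2
  haveI hP : Module.Free R A0 := Module.Free.of_equiv (LinearEquiv.ofBijective (Algebra.linearMap R A0) hb)
  refine ⟨Module.Finite.trans A0 P, ?_, ?_⟩
  · obtain ⟨s, hs⟩ := Module.projective_def'.mp (inferInstance : Module.Projective A0 P)
    exact Module.Projective.of_split (s.restrictScalars R) ((Finsupp.linearCombination A0 _root_.id).restrictScalars R)
      (LinearMap.ext fun x => LinearMap.congr_fun hs x)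
  let f : SymmetricAlgebra R P →ₐ[R] A :=
    SymmetricAlgebra.lift ((e.symm.toLinearMap.comp (SymmetricAlgebra.ι A0 P)).restrictScalars R)
  letI : Algebra A0 (SymmetricAlgebra R P) := ((algebraMap R _).comp i.symm.toRingHom).toAlgebra
  let G : SymmetricAlgebra A0 P →ₐ[A0] SymmetricAlgebra R P := SymmetricAlgebra.lift
    { toFun := SymmetricAlgebra.ι R P
      map_add' := map_add _
      map_smul' := fun c x => by
        obtain ⟨r, rfl⟩ := hb.2 c
        rw [algebraMap_smul, map_smul, RingHom.id_apply, Algebra.smul_def, Algebra.smul_def]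
        have : i.symm (algebraMap R A0 r) = r := i.symm_apply_apply r
        change _ = algebraMap R _ (i.symm (algebraMap R A0 r)) * _
        rw [this] }
  have hG : ∀ x, G (SymmetricAlgebra.ι A0 P x) = SymmetricAlgebra.ι R P x := fun x =>
    SymmetricAlgebra.lift_ι_apply _ x
  have hf : ∀ x, f (SymmetricAlgebra.ι R P x) = e.symm (SymmetricAlgebra.ι A0 P x) := fun x =>
    SymmetricAlgebra.lift_ι_apply _ x
  have hi : ∀ r, i.symm (algebraMap R A0 r) = r := fun r => i.symm_apply_apply r
  have h1 : ∀ x, G (e (f x)) = x := by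
    intro x
    induction x using SymmetricAlgebra.induction with
    | algebraMap r =>
      rw [AlgHom.commutes, IsScalarTower.algebraMap_apply R A0 A, AlgEquiv.commutes, AlgHom.commutes]
      exact congrArg (algebraMap R _) (hi r)
    | ι x => rw [hf, AlgEquiv.apply_symm_apply, hG]
    | add a b ha hb => rw [map_add, map_add, map_add, ha, hb]
    | mul a b ha hb => rw [map_mul, map_mul, map_mul, ha, hb]
  have h2 : ∀ y, f (G y) = e.symm y := by
    intro y
    induction y using SymmetricAlgebra.induction with
    | algebraMap c =>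
      obtain ⟨r, rfl⟩ := hb.2 c
      rw [AlgHom.commutes, AlgEquiv.commutes]
      change f (algebraMap R _ (i.symm (algebraMap R A0 r))) = _
      rw [hi, AlgHom.commutes, IsScalarTower.algebraMap_apply R A0 A]
    | ι x => rw [hG, hf]
    | add a b ha hb => rw [map_add, map_add, map_add, ha, hb]
    | mul a b ha hb => rw [map_mul, map_mul, map_mul, ha, hb]
  refine ⟨(AlgEquiv.ofBijective f ⟨fun a b h => by rw [← h1 a, ← h1 b, h], fun a => ⟨G (e a), ?_⟩⟩).symm⟩
  rw [h2, AlgEquiv.symm_apply_apply]

end Groth.Agent.DiagMonH28
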